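import Cfsg.Agent.Lib.Cert.O82.M
import Cfsg.Agent.Lib.Cert.Sch2

set_option autoImplicit false
set_option maxRecDepth 100000

namespace Cfsg.Agent.Ct.O82s.S3

open Cfsg.Agent.PC

open Cfsg.Agent.Fi Cfsg.Agent.Ct
def W_t : TL := (TL.node (TL.node (TL.node (TL.node (TL.leaf []) (TL.leaf [nat_lit 4, nat_lit 1, nat_lit 2, nat_lit 4, nat_lit 5, nat_lit 2, nat_lit 5, nat_lit 7, nat_lit 6, nat_lit 7, nat_lit 1, nat_lit 2, nat_lit 6, nat_lit 8, nat_lit 7, nat_lit 1, nat_lit 6, nat_lit 4, nat_lit 8, nat_lit 0, nat_lit 2, nat_lit 2, nat_lit 5])) (TL.node (TL.leaf [nat_lit 4, nat_lit 1, nat_lit 2, nat_lit 4, nat_lit 2, nat_lit 5, nat_lit 1, nat_lit 5, nat_lit 8, nat_lit 7, nat_lit 1, nat_lit 6, nat_lit 4, nat_lit 3, nat_lit 8, nat_lit 6, nat_lit 4, nat_lit 5, nat_lit 6, nat_lit 5, nat_lit 4, nat_lit 7]) (TL.leaf [nat_lit 5, nat_lit 3, nat_lit 5, nat_lit 7, nat_lit 0, nat_lit 7, nat_lit 4, nat_lit 2, nat_lit 5, nat_lit 1, nat_lit 0, nat_lit 4, nat_lit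 8, nat_lit 7, nat_lit 6, nat_lit 5, nat_lit 1, nat_lit 6]))) (TL.node (TL.node (TL.leaf [nat_lit 4, nat_lit 1, nat_lit 2, nat_lit 4, nat_lit 7, nat_lit 6, nat_lit 8, nat_lit 7, nat_lit 1, nat_lit 6, nat_lit 8, nat_lit 0, nat_lit 5, nat_lit 6, nat_lit 1]) (TL.leaf [nat_lit 7, nat_lit 2, nat_lit 6, nat_lit 7, nat_lit 1, nat_lit 4, nat_lit 3, nat_lit 0, nat_lit 8, nat_lit 4, nat_lit 5, nat_lit 6, nat_lit 8, nat_lit 7])) (TL.leaf [nat_lit 5, nat_lit 8, nat_lit 6, nat_lit 8, nat_lit 5, nat_lit 8, nat_lit 7, nat_lit 1, nat_lit 8, nat_lit 1, nat_lit 5, nat_lit 7, nat_lit 4, nat_lit 8, nat_lit 6, nat_lit 7, nat_lit 0, nat_lit 4, nat_lit 1, nat_lit 8, nat_lit 7, nat_lit 1, nat_lit 6, nat_lit 8, nat_lit 5, nat_lit 6, nat_lit 2, nat_lit 2, nat_lit 5, nat_lit 2]))) (TL.node (TL.node (TL.node (TL.leaf [nat_lit 7, nat_lit 2, nat_lit 8]) (TL.leaf [nat_lit 4, nat_lit 6, nat_lit 2, nat_lit 0, nat_lit 8, nat_lit 1, nat_lit 6, nat_lit 4])) (TL.node (TL.leaf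 [nat_lit 5, nat_lit 6, nat_lit 3, nat_lit 5, nat_lit 7, nat_lit 0, nat_lit 7, nat_lit 4, nat_lit 5, nat_lit 3, nat_lit 5, nat_lit 0, nat_lit 7, nat_lit 4, nat_lit 5, nat_lit 1, nat_lit 5, nat_lit 7]) (TL.leaf [nat_lit 5, nat_lit 6, nat_lit 3, nat_lit 5, nat_lit 7, nat_lit 0, nat_lit 7, nat_lit 4, nat_lit 2, nat_lit 5, nat_lit 1, nat_lit 4, nat_lit 7, nat_lit 5, nat_lit 7, nat_lit 5, nat_lit 1, nat_lit 4, nat_lit 0, nat_lit 8, nat_lit 6, nat_lit 1, nat_lit 5, nat_lit 7, nat_lit 2]))) (TL.node (TL.node (TL.leaf [nat_lit 4, nat_lit 6, nat_lit 2, nat_lit 6, nat_lit 0, nat_lit 4, nat_lit 8, nat_lit 4, nat_lit 7, nat_lit 8, nat_lit 6, nat_lit 2, nat_lit 1, nat_lit 4, nat_lit 0]) (TL.leaf [nat_lit 5, nat_lit 6, nat_lit 5, nat_lit 4, nat_lit 3, nat_lit 1, nat_lit 0, nat_lit 8, nat_lit 6, nat_lit 7, nat_lit 1, nat_lit 6, nat_lit 1, nat_lit 8, nat_lit 4, nat_lit 6])) (TL.leaf [nat_lit 5, nat_lit 6, nat_lit 3, nat_lit 5, nat_lit 7, nat_lit 8, nat_lit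 4, nat_lit 6, nat_lit 1, nat_lit 5, nat_lit 8, nat_lit 1, nat_lit 6, nat_lit 1, nat_lit 8, nat_lit 5, nat_lit 7, nat_lit 1, nat_lit 6, nat_lit 3, nat_lit 7, nat_lit 8, nat_lit 4, nat_lit 7, nat_lit 8, nat_lit 0, nat_lit 3, nat_lit 4]))))
noncomputable def W (i : ℕ) : List ℕ := TL.get W_t i
def B : List ℕ := [nat_lit 1, nat_lit 2, nat_lit 0, nat_lit 3, nat_lit 5, nat_lit 4]
noncomputable def q (j : ℕ) : O82.P := ev O82.al (W j)
noncomputable def Q (j : ℕ) : ℕ → ℕ := trF O82.T (W j)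
theorem md : Md O82.pt 1120 B q Q 14 := (O82.md0).words' (by decide +kernel)
def I (i : ℕ) : ℕ := Nat.land (Nat.shiftRight (nat_lit 0x680006c1c0740000000000000000000000000000000000000000000000000000000000000000000000000000000000000000000000000000000000000000000000000000000000000000000000000000541605c18064000000000000000000000000000000000000000000000000000000000000000000000000000000000000000000000000000000000000000000000000000000000000000000000000000040110481305000000000000000000000000000000000000000000000000000000000000000000000000000000000000000000000000000000000000000000000000000000000000000000000000000003c00000000000000000000000000000000000000000000000000000000000000000000000000000000000000000000000000000000000000000000000000000000000000000000000000000000000000380a00000000000000000000000000000000000000000000000000000000000000000000000000000000000000000000000000000000000000000000000000000000000000000000000000000000000034090180000000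0000000000000000000000000000000000000000000000000000000000000000000000000000000000000000000000000000000000000000000000000000000000000000000000000030080140300000000000000000000000000000000000000000000000000000000000000000000000000000000000000000000000000000000000000000000000000000000000000000000000000000002c0701002004000000000000000000000000000000000000000000000000000000000000000000000000000000000000000000000000000000000000000000000000000000000000000000000000000000000000000000) (Nat.mul (nat_lit 10) i)) (nat_lit 1023)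
def Ru_t1 : TN := (TN.node (TN.node (TN.node (TN.node (TN.leaf (nat_lit 0)) (TN.leaf (nat_lit 0x60830c5000000000185142))) (TN.node (TN.leaf (nat_lit 0x84000000000084082)) (TN.leaf (nat_lit 0x70820000000001c20c2)))) (TN.node (TN.node (TN.leaf (nat_lit 0x43000000000043082)) (TN.leaf (nat_lit 0x181000000000181082))) (TN.node (TN.leaf (nat_lit 0x85000000000085082)) (TN.leaf (nat_lit 0x80410820c50000000002021c2))))) (TN.node (TN.node (TN.node (TN.leaf (nat_lit 0x42000000000042082)) (TN.leaf (nat_lit 0x60820c3000000000183142))) (TN.node (TN.leaf (nat_lit 0x4104003)) (TN.leaf (nat_lit 0x80830c5000000000205142)))) (TN.node (TN.node (TN.leaf (nat_lit 0x30c3003)) (TN.leaf (nat_lit 0x1c20831040000000001c4182))) (TN.leaf (nat_lit 0x2083105000000000105142)))))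
def Ru_t2 : TN := (TN.node (TN.node (TN.node (TN.node (TN.leaf (nat_lit 0x1041003)) (TN.leaf (nat_lit 0x6042104000000000184142))) (TN.node (TN.leaf (nat_lit 0x20c40000000000c40c2)) (TN.leaf (nat_lit 0x70410000000001c10c2)))) (TN.node (TN.node (TN.leaf (nat_lit 0x83000000000083082)) (TN.leaf (nat_lit 0x1c20831450000000001c5182))) (TN.node (TN.leaf (nat_lit 0xc50000000000c5082)) (TN.leaf (nat_lit 0x2020c5000000000201102))))) (TN.node (TN.node (TN.node (TN.leaf (nat_lit 0x2082003)) (TN.leaf (nat_lit 0x182000000000182082))) (TN.node (TN.leaf (nat_lit 0x45000000000045082)) (TN.leaf (nat_lit 0x201045000000000203102)))) (TN.node (TN.node (TN.leaf (nat_lit 0x44000000000044082)) (TN.leaf (nat_lit 0x70830000000001c30c2))) (TN.leaf (nat_lit 0x5145003)))))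
def Ru_t : TN := (TN.node Ru_t1 Ru_t2)
noncomputable def Ru (i : ℕ) : ℕ := TN.get Ru_t i
def D_t1 : TN := (TN.node (TN.node (TN.node (TN.node (TN.leaf (nat_lit 0x1000000000000000000000001)) (TN.leaf (nat_lit 0x1000000020000000000000000000000000000000000000000000000000000000000000000000000000000000100000000000000000000000000000000000000020000000000000001000000010000000000000001000000000000000000000011))) (TN.leaf (nat_lit 0x1000000000000000000000002000000000000000000000009))) (TN.node (TN.leaf (nat_lit 0x10000000000000000000000000000000000000005)) (TN.leaf (nat_lit 0x200000000000000000000000000000000000000000000000000000000000000000000000000000000000000000000000000000000000000000000000100000000000000000000000000000001000000000000000000000000000000000000000d)))) (TN.node (TN.node (TN.leaf (nat_lit 0x1000000000000000000000000000000000000000000000000000000000000000000000002000000000000000000000000000000000000000200000003)) (TN.leaf (nat_lit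 0x10000000200000000000000000000000000000000000000000000000000000002000000000000000000000000000000000000000b))) (TN.node (TN.leaf (nat_lit 0x100000000000000000000000000000000000000010000000000000007)) (TN.leaf (nat_lit 0x20000000000000000000000000000000000000000000000000000000000000000000000000000000000000000000000000000000000000000000000010000000100000000000000000000000f)))))
def D_t2 : TN := (TN.node (TN.node (TN.node (TN.leaf (nat_lit 0x100000002)) (TN.leaf (nat_lit 0x100000000000000000000000000000000000000000000000000000001000000000000000000000000000000000000000a))) (TN.node (TN.leaf (nat_lit 0x10000000000000000000000000000000000000000000000020000000000000006)) (TN.leaf (nat_lit 0x10000000000000000000000000000000000000000000000000000000100000000000000010000000e)))) (TN.node (TN.node (TN.leaf (nat_lit 0x20000000000000004)) (TN.leaf (nat_lit 0x10000000100000001000000000000000000000000000000000000000000000000000000000000000000000001000000000000000c)))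 (TN.node (TN.leaf (nat_lit 0x100000000000000020000000000000008)) (TN.leaf (nat_lit 0x100000002000000000000000000000000000000010000000000000001000000010000000000000000000000010000000000000000000000010000000000000002000000000000000000000010)))))
def D_t : TN := (TN.node D_t1 D_t2)
noncomputable def D (i : ℕ) : ℕ := TN.get D_t i
def La_t1 : TN := (TN.node (TN.node (TN.node (TN.node (TN.leaf (nat_lit 512)) (TN.leaf (nat_lit 0x20102000000000202000000))) (TN.leaf (nat_lit 0x200000001000000))) (TN.node (TN.leaf (nat_lit 0x1000000)) (TN.leaf (nat_lit 0x2000002000000)))) (TN.node (TN.node (TN.node (TN.leaf (nat_lit 0)) (TN.leaf (nat_lit 0))) (TN.leaf (nat_lit 0))) (TN.node (TN.leaf (nat_lit 0)) (TN.leaf (nat_lit 0)))))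
def La_t2 : TN := (TN.node (TN.node (TN.node (TN.node (TN.leaf (nat_lit 0)) (TN.leaf (nat_lit 0))) (TN.leaf (nat_lit 0))) (TN.node (TN.leaf (nat_lit 0)) (TN.leaf (nat_lit 0)))) (TN.node (TN.node (TN.node (TN.leaf (nat_lit 0)) (TN.leaf (nat_lit 0))) (TN.leaf (nat_lit 0))) (TN.node (TN.leaf (nat_lit 0)) (TN.leaf (nat_lit 0)))))
def La_t3 : TN := (TN.node La_t1 La_t2)
def La_t4 : TN := (TN.node (TN.node (TN.node (TN.node (TN.leaf (nat_lit 0)) (TN.leaf (nat_lit 0x20000000000020202))) (TN.leaf (nat_lit 0))) (TN.node (TN.leaf (nat_lit 0)) (TN.leaf (nat_lit 0)))) (TN.node (TN.node (TN.node (TN.leaf (nat_lit 0)) (TN.leaf (nat_lit 0))) (TN.leaf (nat_lit 0))) (TN.node (TN.leaf (nat_lit 0)) (TN.leaf (nat_lit 0)))))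
def La_t5 : TN := (TN.node (TN.node (TN.node (TN.node (TN.leaf (nat_lit 0)) (TN.leaf (nat_lit 0))) (TN.leaf (nat_lit 0))) (TN.node (TN.leaf (nat_lit 0)) (TN.leaf (nat_lit 0)))) (TN.node (TN.node (TN.node (TN.leaf (nat_lit 0)) (TN.leaf (nat_lit 0))) (TN.leaf (nat_lit 0))) (TN.node (TN.leaf (nat_lit 0)) (TN.leaf (nat_lit 0)))))
def La_t6 : TN := (TN.node La_t4 La_t5)
def La_t7 : TN := (TN.node La_t3 La_t6)
def La_t8 : TN := (TN.node (TN.node (TN.node (TN.node (TN.leaf (nat_lit 0)) (TN.leaf (nat_lit 0x202000000000000000000))) (TN.leaf (nat_lit 0x20000000000000002))) (TN.node (TN.leaf (nat_lit 0)) (TN.leaf (nat_lit 0)))) (TN.node (TN.node (TN.node (TN.leaf (nat_lit 0)) (TN.leaf (nat_lit 0))) (TN.leaf (nat_lit 0))) (TN.node (TN.leaf (nat_lit 0)) (TN.leaf (nat_lit 0)))))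
def La_t9 : TN := (TN.node (TN.node (TN.node (TN.node (TN.leaf (nat_lit 0)) (TN.leaf (nat_lit 0))) (TN.leaf (nat_lit 0))) (TN.node (TN.leaf (nat_lit 0)) (TN.leaf (nat_lit 0)))) (TN.node (TN.node (TN.node (TN.leaf (nat_lit 0)) (TN.leaf (nat_lit 0))) (TN.leaf (nat_lit 0))) (TN.node (TN.leaf (nat_lit 0)) (TN.leaf (nat_lit 0)))))
def La_t10 : TN := (TN.node La_t8 La_t9)
def La_t11 : TN := (TN.node (TN.node (TN.node (TN.node (TN.leaf (nat_lit 0)) (TN.leaf (nat_lit 0))) (TN.leaf (nat_lit 0))) (TN.node (TN.leaf (nat_lit 0)) (TN.leaf (nat_lit 0)))) (TN.node (TN.node (TN.node (TN.leaf (nat_lit 0)) (TN.leaf (nat_lit 0))) (TN.leaf (nat_lit 0))) (TN.node (TN.leaf (nat_lit 0)) (TN.leaf (nat_lit 0)))))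
def La_t12 : TN := (TN.node (TN.node (TN.node (TN.node (TN.leaf (nat_lit 0)) (TN.leaf (nat_lit 0))) (TN.leaf (nat_lit 0))) (TN.node (TN.leaf (nat_lit 0)) (TN.leaf (nat_lit 0)))) (TN.node (TN.node (TN.node (TN.leaf (nat_lit 0)) (TN.leaf (nat_lit 0))) (TN.leaf (nat_lit 0))) (TN.node (TN.leaf (nat_lit 0)) (TN.leaf (nat_lit 0)))))
def La_t13 : TN := (TN.node La_t11 La_t12)
def La_t14 : TN := (TN.node La_t10 La_t13)
def La_t15 : TN := (TN.node La_t7 La_t14)
def La_t16 : TN := (TN.node (TN.node (TN.node (TN.node (TN.leaf (nat_lit 0)) (TN.leaf (nat_lit 0x2000000000100000000))) (TN.leaf (nat_lit 0x200000000))) (TN.node (TN.leaf (nat_lit 2)) (TN.leaf (nat_lit 0x20001000000)))) (TN.node (TN.node (TN.node (TN.leaf (nat_lit 0)) (TN.leaf (nat_lit 0))) (TN.leaf (nat_lit 0))) (TN.node (TN.leaf (nat_lit 0)) (TN.leaf (nat_lit 0)))))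
def La_t17 : TN := (TN.node (TN.node (TN.node (TN.node (TN.leaf (nat_lit 0)) (TN.leaf (nat_lit 0))) (TN.leaf (nat_lit 0))) (TN.node (TN.leaf (nat_lit 0)) (TN.leaf (nat_lit 0)))) (TN.node (TN.node (TN.node (TN.leaf (nat_lit 0)) (TN.leaf (nat_lit 0))) (TN.leaf (nat_lit 0))) (TN.node (TN.leaf (nat_lit 0)) (TN.leaf (nat_lit 0)))))
def La_t18 : TN := (TN.node La_t16 La_t17)
def La_t19 : TN := (TN.node (TN.node (TN.node (TN.node (TN.leaf (nat_lit 0)) (TN.leaf (nat_lit 0))) (TN.leaf (nat_lit 0))) (TN.node (TN.leaf (nat_lit 0)) (TN.leaf (nat_lit 0)))) (TN.node (TN.node (TN.node (TN.leaf (nat_lit 0)) (TN.leaf (nat_lit 0))) (TN.leaf (nat_lit 0))) (TN.node (TN.leaf (nat_lit 0)) (TN.leaf (nat_lit 0)))))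
def La_t20 : TN := (TN.node (TN.node (TN.node (TN.node (TN.leaf (nat_lit 0)) (TN.leaf (nat_lit 0))) (TN.leaf (nat_lit 0))) (TN.node (TN.leaf (nat_lit 0)) (TN.leaf (nat_lit 0)))) (TN.node (TN.node (TN.node (TN.leaf (nat_lit 0)) (TN.leaf (nat_lit 0))) (TN.leaf (nat_lit 0))) (TN.node (TN.leaf (nat_lit 0)) (TN.leaf (nat_lit 0)))))
def La_t21 : TN := (TN.node La_t19 La_t20)
def La_t22 : TN := (TN.node La_t18 La_t21)
def La_t23 : TN := (TN.node (TN.node (TN.node (TN.node (TN.leaf (nat_lit 0)) (TN.leaf (nat_lit 0))) (TN.leaf (nat_lit 0))) (TN.node (TN.leaf (nat_lit 0)) (TN.leaf (nat_lit 0x200000000000000000000000101)))) (TN.node (TN.node (TN.node (TN.leaf (nat_lit 0)) (TN.leaf (nat_lit 0))) (TN.leaf (nat_lit 0))) (TN.node (TN.leaf (nat_lit 0)) (TN.leaf (nat_lit 0)))))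
def La_t24 : TN := (TN.node (TN.node (TN.node (TN.node (TN.leaf (nat_lit 0)) (TN.leaf (nat_lit 0))) (TN.leaf (nat_lit 0))) (TN.node (TN.leaf (nat_lit 0)) (TN.leaf (nat_lit 0)))) (TN.node (TN.node (TN.node (TN.leaf (nat_lit 0)) (TN.leaf (nat_lit 0))) (TN.leaf (nat_lit 0))) (TN.node (TN.leaf (nat_lit 0)) (TN.leaf (nat_lit 0)))))
def La_t25 : TN := (TN.node La_t23 La_t24)
def La_t26 : TN := (TN.node (TN.node (TN.node (TN.node (TN.leaf (nat_lit 0)) (TN.leaf (nat_lit 0))) (TN.leaf (nat_lit 0))) (TN.node (TN.leaf (nat_lit 0)) (TN.leaf (nat_lit 0)))) (TN.node (TN.node (TN.node (TN.leaf (nat_lit 0)) (TN.leaf (nat_lit 0))) (TN.leaf (nat_lit 0))) (TN.node (TN.leaf (nat_lit 0)) (TN.leaf (nat_lit 0)))))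
def La_t27 : TN := (TN.node (TN.node (TN.node (TN.node (TN.leaf (nat_lit 0)) (TN.leaf (nat_lit 0))) (TN.leaf (nat_lit 0))) (TN.node (TN.leaf (nat_lit 0)) (TN.leaf (nat_lit 0)))) (TN.node (TN.node (TN.node (TN.leaf (nat_lit 0)) (TN.leaf (nat_lit 0))) (TN.leaf (nat_lit 0))) (TN.node (TN.leaf (nat_lit 0)) (TN.leaf (nat_lit 0)))))
def La_t28 : TN := (TN.node La_t26 La_t27)
def La_t29 : TN := (TN.node La_t25 La_t28)
def La_t30 : TN := (TN.node La_t22 La_t29)
def La_t : TN := (TN.node La_t15 La_t30)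
noncomputable def La (i : ℕ) : ℕ := TN.get La_t i
def Le_t : TN := (TN.leaf (nat_lit 0))
noncomputable def Le (i : ℕ) : ℕ := TN.get Le_t i
def C_t1 : TN := (TN.node (TN.node (TN.node (TN.node (TN.leaf (nat_lit 0)) (TN.leaf (nat_lit 0))) (TN.node (TN.leaf (nat_lit 0)) (TN.leaf (nat_lit 0)))) (TN.node (TN.node (TN.leaf (nat_lit 0)) (TN.leaf (nat_lit 0))) (TN.node (TN.leaf (nat_lit 0)) (TN.leaf (nat_lit 0))))) (TN.node (TN.node (TN.node (TN.leaf (nat_lit 0)) (TN.leaf (nat_lit 0))) (TN.node (TN.leaf (nat_lit 0)) (TN.leaf (nat_lit 0)))) (TN.node (TN.node (TN.leaf (nat_lit 0)) (TN.leaf (nat_lit 0))) (TN.node (TN.leaf (nat_lit 0)) (TN.leaf (nat_lit 0))))))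
def C_t2 : TN := (TN.node (TN.node (TN.node (TN.node (TN.leaf (nat_lit 0x1000000000000000000000000000000000000000000000000000000000000000000000000)) (TN.leaf (nat_lit 0))) (TN.node (TN.leaf (nat_lit 0)) (TN.leaf (nat_lit 0)))) (TN.node (TN.node (TN.leaf (nat_lit 0)) (TN.leaf (nat_lit 0))) (TN.node (TN.leaf (nat_lit 0)) (TN.leaf (nat_lit 0))))) (TN.node (TN.node (TN.node (TN.leaf (nat_lit 0)) (TN.leaf (nat_lit 0))) (TN.node (TN.leaf (nat_lit 0)) (TN.leaf (nat_lit 0)))) (TN.node (TN.node (TN.leaf (nat_lit 0)) (TN.leaf (nat_lit 0))) (TN.node (TN.leaf (nat_lit 0)) (TN.leaf (nat_lit 0))))))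
def C_t3 : TN := (TN.node C_t1 C_t2)
def C_t4 : TN := (TN.node (TN.node (TN.node (TN.node (TN.leaf (nat_lit 0)) (TN.leaf (nat_lit 0))) (TN.node (TN.leaf (nat_lit 0)) (TN.leaf (nat_lit 0)))) (TN.node (TN.node (TN.leaf (nat_lit 0)) (TN.leaf (nat_lit 0))) (TN.node (TN.leaf (nat_lit 0)) (TN.leaf (nat_lit 0))))) (TN.node (TN.node (TN.node (TN.leaf (nat_lit 0)) (TN.leaf (nat_lit 0))) (TN.node (TN.leaf (nat_lit 0)) (TN.leaf (nat_lit 0)))) (TN.node (TN.node (TN.leaf (nat_lit 0)) (TN.leaf (nat_lit 0))) (TN.node (TN.leaf (nat_lit 0)) (TN.leaf (nat_lit 0))))))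
def C_t5 : TN := (TN.node (TN.node (TN.node (TN.node (TN.leaf (nat_lit 0x10000000000000000000000000000000000000001000000000000000000000000000000000000000000000000000000000000000000000000)) (TN.leaf (nat_lit 0))) (TN.node (TN.leaf (nat_lit 0)) (TN.leaf (nat_lit 0)))) (TN.node (TN.node (TN.leaf (nat_lit 0)) (TN.leaf (nat_lit 0))) (TN.node (TN.leaf (nat_lit 0)) (TN.leaf (nat_lit 0))))) (TN.node (TN.node (TN.node (TN.leaf (nat_lit 0)) (TN.leaf (nat_lit 0))) (TN.node (TN.leaf (nat_lit 0)) (TN.leaf (nat_lit 0)))) (TN.node (TN.node (TN.leaf (nat_lit 0)) (TN.leaf (nat_lit 0))) (TN.node (TN.leaf (nat_lit 0)) (TN.leaf (nat_lit 0))))))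
def C_t6 : TN := (TN.node C_t4 C_t5)
def C_t : TN := (TN.node C_t3 C_t6)
noncomputable def C (i : ℕ) : ℕ := TN.get C_t i
def e (i : ℕ) : ℕ := Nat.land (Nat.shiftRight (nat_lit 0) (Nat.mul (nat_lit 1) i)) (nat_lit 1)
def U_t : TL := (TL.node (TL.node (TL.node (TL.node (TL.node (TL.leaf [nat_lit 7]) (TL.leaf [nat_lit 7])) (TL.leaf [nat_lit 6])) (TL.node (TL.leaf [nat_lit 7]) (TL.leaf [nat_lit 7]))) (TL.node (TL.node (TL.leaf [nat_lit 8]) (TL.leaf [nat_lit 7])) (TL.node (TL.leaf [nat_lit 6]) (TL.leaf [nat_lit 6])))) (TL.node (TL.node (TL.node (TL.leaf [nat_lit 7]) (TL.leaf [nat_lit 3])) (TL.node (TL.leaf [nat_lit 6]) (TL.leaf [nat_lit 6]))) (TL.node (TL.node (TL.leaf [nat_lit 1]) (TL.leaf [nat_lit 8])) (TL.node (TL.leaf [nat_lit 7]) (TL.leaf [nat_lit 6])))))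
noncomputable def U (i : ℕ) : List ℕ := TL.get U_t i
def V1_t : TL := (TL.node (TL.node (TL.node (TL.node (TL.node (TL.leaf [nat_lit 2, nat_lit 2, nat_lit 2]) (TL.leaf [nat_lit 4, nat_lit 5])) (TL.leaf [nat_lit 3, nat_lit 3, nat_lit 3])) (TL.node (TL.leaf [nat_lit 2, nat_lit 3]) (TL.leaf [nat_lit 3, nat_lit 4]))) (TL.node (TL.node (TL.leaf [nat_lit 3, nat_lit 3, nat_lit 3]) (TL.leaf [nat_lit 3, nat_lit 5])) (TL.node (TL.leaf [nat_lit 1, nat_lit 4]) (TL.leaf [nat_lit 3, nat_lit 4])))) (TL.node (TL.node (TL.node (TL.leaf [nat_lit 1, nat_lit 1, nat_lit 1]) (TL.leaf [nat_lit 4, nat_lit 5])) (TL.node (TL.leaf [nat_lit 2, nat_lit 4]) (TL.leaf [nat_lit 4, nat_lit 4, nat_lit 4]))) (TL.node (TL.node (TL.leaf [nat_lit 3, nat_lit 4]) (TL.leaf [nat_lit 1, nat_lit 3])) (TL.node (TL.leaf [nat_lit 1, nat_lit 3]) (TL.leaf [nat_lit 4, nat_lit 5])))))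
noncomputable def V1 (i : ℕ) : List ℕ := TL.get V1_t i
def V2_t : TL := (TL.node (TL.node (TL.node (TL.node (TL.node (TL.leaf []) (TL.leaf [nat_lit 5, nat_lit 4, nat_lit 3, nat_lit 2, nat_lit 2])) (TL.leaf [])) (TL.node (TL.leaf [nat_lit 3, nat_lit 2]) (TL.leaf [nat_lit 4, nat_lit 3, nat_lit 2]))) (TL.node (TL.node (TL.leaf []) (TL.leaf [nat_lit 5, nat_lit 3])) (TL.node (TL.leaf [nat_lit 4, nat_lit 1]) (TL.leaf [nat_lit 4, nat_lit 3, nat_lit 2])))) (TL.node (TL.node (TL.node (TL.leaf []) (TL.leaf [nat_lit 5, nat_lit 4, nat_lit 3, nat_lit 2, nat_lit 2])) (TL.node (TL.leaf [nat_lit 4, nat_lit 2]) (TL.leaf []))) (TL.node (TL.node (TL.leaf [nat_lit 4, nat_lit 3, nat_lit 2]) (TL.leaf [nat_lit 3, nat_lit 1])) (TL.node (TL.leaf [nat_lit 3, nat_lit 1]) (TL.leaf [nat_lit 5, nat_lit 4, nat_lit 3, nat_lit 2, nat_lit 2])))))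
noncomputable def V2 (i : ℕ) : List ℕ := TL.get V2_t i
def Y_t : TL := (TL.node (TL.node (TL.node (TL.leaf [nat_lit 5, nat_lit 5, nat_lit 3, nat_lit 3, nat_lit 2, nat_lit 2]) (TL.leaf [nat_lit 4])) (TL.leaf [nat_lit 5, nat_lit 5, nat_lit 3, nat_lit 3, nat_lit 2, nat_lit 1])) (TL.node (TL.leaf [nat_lit 5, nat_lit 5, nat_lit 3, nat_lit 1]) (TL.leaf [nat_lit 5, nat_lit 5, nat_lit 1, nat_lit 1])))
noncomputable def Y (i : ℕ) : List ℕ := TL.get Y_t i
def O_t : TL := (TL.node (TL.node (TL.node (TL.leaf [nat_lit 0]) (TL.leaf [nat_lit 460])) (TL.leaf [nat_lit 51])) (TL.node (TL.leaf [nat_lit 9]) (TL.leaf [nat_lit 51, nat_lit 508, nat_lit 276])))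
noncomputable def O (i : ℕ) : List ℕ := TL.get O_t i
noncomputable def f1 : ℕ → ℕ := rvE Q B (nat_lit 14) Ru
noncomputable def f2 (j : ℕ) : ℕ := rlE I Ru (nat_lit 30) (nat_lit 3) (U j) (V1 j) (V2 j) (D j)
noncomputable def f3 : ℕ → ℕ := tgR I Ru (nat_lit 30) (nat_lit 3) (nat_lit 3) C D (nat_lit 17) La
noncomputable def f4 : ℕ → ℕ := chE Q B (nat_lit 1120) (nat_lit 14) (nat_lit 5) (nat_lit 9) Y O
theorem ra0 : Nat.beq (rng f1 (nat_lit 0) (nat_lit 30)) (nat_lit 0) = true := by decide +kernel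
theorem rb0 : Nat.beq (rng f2 (nat_lit 0) (nat_lit 17)) (nat_lit 0) = true := by decide +kernel
theorem rc0 : Nat.beq (rng f3 (nat_lit 0) (nat_lit 5)) (nat_lit 0) = true := by decide +kernel
theorem rd0 : Nat.beq (rng f4 (nat_lit 0) (nat_lit 5)) (nat_lit 0) = true := by decide +kernel
theorem h1 : ∀ i < 30, f1 i = 0 := by
  have h := zero_lt_zero f1
  have h := zero_lt_add (a := (nat_lit 0)) (n := (nat_lit 30)) (b := (nat_lit 30)) h ra0 rfl
  exact h
theorem h2 : ∀ i < 17, f2 i = 0 := by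
  have h := zero_lt_zero f2
  have h := zero_lt_add (a := (nat_lit 0)) (n := (nat_lit 17)) (b := (nat_lit 17)) h rb0 rfl
  exact h
theorem h3 : ∀ i < 5, f3 i = 0 := by
  have h := zero_lt_zero f3
  have h := zero_lt_add (a := (nat_lit 0)) (n := (nat_lit 5)) (b := (nat_lit 5)) h rc0 rfl
  exact h
theorem h4 : ∀ i < 5, f4 i = 0 := by
  have h := zero_lt_zero f4
  have h := zero_lt_add (a := (nat_lit 0)) (n := (nat_lit 5)) (b := (nat_lit 5)) h rd0 rfl
  exact h
theorem nok : NoK (O82.P) (3 ^ (0 + 1)) := fun _ _ _ _ h =>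
  (md.rv (I := I) (K := 30) rfl ⟨rfl, by decide⟩ (upTo_beq (by decide +kernel)) h1).core h (by norm_num)
    (md.syl (by norm_num) rfl (by decide) h4) (by rw [O82.card]; decide) (n := 3) (s := 0) (e := e) (L := Le) (C := C)
    ⟨rfl, by decide, rfl, by decide, by decide, rfl, by decide⟩ h2 (upTo_beq (by decide +kernel)) (upTo_beq (by decide +kernel)) h3

end Cfsg.Agent.Ct.O82s.S3
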