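import Cfsg.Agent.Lib.Cert.O82s.UV

set_option autoImplicit false
set_option maxRecDepth 100000

namespace Cfsg.Agent.Ct.O82s.V0

open Cfsg.Agent.PC

open Cfsg.Agent.Fi Cfsg.Agent.Ct
def Ef_t : TN := (TN.node (TN.node (TN.leaf (nat_lit 0xc43c5ed05c6c682a2e2c302826248a206a741a18169c8e100e0c0a840604020022c85e367a6e778c7020607e2c0e3e38aeed1acdc6eeaa28b2a042acdc9e54163a5c50e6e0e2ba252e9c62c0d69a0a908ea6d292d484d88082e4a8dfa57472797c6c6a68ea64944e66b8b0ca56bee8c2da4c4a484644a2408ad0ce3c52343230b4962a9826bdc4b61e1c58185a141210860c880806040200c4cd6652a87ca4a679b64e8296868a3c3ac958ecc62250985425a25c202ebe5aceb8c27a8c7742bcb49c94282c6288908ee03e0a0e847e80d86ee671e37472dee46c6a685e649adaeaac161a56b236aa604c4a484644ba40d238aed0e83432309ed62ac026a1eedc1e1cca18b0141210d40c920806040200c4a8eae8c9e4a4a6c6dc4ed86a32d23c3acd4ce7deee50c05482845c7c2e6cb0180c72ece0e242a0749a9c8a2c629290382698520ebabc8025b67b714a9eaa7920b2d6685a64943016b8661a56be88c2daca76484644a24028d0ce8e0a34d460b4962a3e8c7f106e1e1c58ae5e14122286ac36080604020022edb092c8dc778c79e460a09686c038ae7a58e67010aad2b282a2ac7c9ebeeaceb8c2a9264bbad8b462948ad69ae8903ce09852d442bc807eb6ccdfe32e50c66e542c685a649cda5e0c66ca566c8872301aa548464484403e8e18d036340e4e746a2a28a624ee201e1c4c3a161412c4325c0a0806040200))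 (TN.leaf (nat_lit 0xeecc5436866ee288705cda622ca83c8aceec1ac96822c22866bc42b6b8b45e163a2050d49277a2252e9c7e989682a6908e0ad0e0e605944c))) (TN.leaf (nat_lit 0x9a7c0e78a54046dee46c00c6be30d84eb2dc5a5856ea52aa608015487244ba7438d2ae3ee81833649ed62ac026a1c4ac1e1cca34b04b10127a0c8c080685026a22ed76527a7c678c79ba60af92c08ac8833858d0c668aad4b2a0dcaca29ebe5ad9b8c28f08a4b6bcb49c9486889ad690a9e0d296986ecf4e7ee4e6dfea747212846c36c4e31a06da5e1eb0ca5602e840804c16482e444250323d3acc6a343e30462c2a282618ee205c1c64244a1470100e0c0aa66204540096ed6652b6ccb58c797a608222ac8a3859e4af7ca6c4aa98b2a0a286e6e3be5acbd4c2a8c6a4babc764e94c0ee9a881643e0d292b83dd88064c8dcdf9e7454266f506a0aea7e30da465cb0cf5672e86c9c4c4a485e368f4004853ad0443432622e2c2a1e701cd62028241a18901412100e0c6808063e020022ed6652827c788c76b6607aaa9a8a38aea0babcc66c9698b2c8caacdc9ebe5aceb8d6a874a458ccb49cd4c0c28688903ae0d2929484e6807ee4d8e2dea672701cc46a68ea2062da1230b0a25610e8500c4c4a164644420a34188ed02a3e325c262c36062e25ee641e6e1a3c48145e540e4e400828040200d2edceb8dfe0d8e4e7b660e29686ee38eac858ccc73eaa98b2a0a2e8dc9ebe5a6652c2716e7ebabcb41494c0d69a884d127c2292d4087780a48c787a831c56a9a6341e32ae6462da3a36b0ca7254ac504e914a4846444240)))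
noncomputable def Ef (i : ℕ) : ℕ := get9 Ef_t (nat_lit 8) (nat_lit 255) i
noncomputable def E (j c : ℕ) : ℕ := Ef (Nat.add (Nat.mul j (nat_lit 120)) c)
def iw (i : ℕ) : ℕ := Nat.land (Nat.shiftRight (nat_lit 0x876542310) (Nat.mul (nat_lit 4) i)) (nat_lit 15)
def a (i : ℕ) : ℕ := Nat.land (Nat.shiftRight (nat_lit 1) (Nat.mul (nat_lit 1) i)) (nat_lit 1)
def ws : List (List ℕ × ℕ) := [([nat_lit 2, nat_lit 2, nat_lit 2], (nat_lit 0)), ([nat_lit 0, nat_lit 1, nat_lit 0, nat_lit 1], (nat_lit 0)), ([nat_lit 0, nat_lit 2, nat_lit 0, nat_lit 2, nat_lit 0, nat_lit 2], (nat_lit 0)), ([nat_lit 2, nat_lit 0, nat_lit 3, nat_lit 1, nat_lit 0], (nat_lit 0)), ([nat_lit 0, nat_lit 4, nat_lit 0, nat_lit 4, nat_lit 0, nat_lit 4], (nat_lit 0)), ([nat_lit 2, nat_lit 4, nat_lit 2, nat_lit 4], (nat_lit 0)), ([nat_lit 0, nat_lit 5, nat_lit 0, nat_lit 5], (nat_lit 0)), ([nat_lit 2,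 nat_lit 5, nat_lit 2, nat_lit 5, nat_lit 2, nat_lit 5], (nat_lit 0)), ([nat_lit 4, nat_lit 5, nat_lit 4, nat_lit 5], (nat_lit 0)), ([nat_lit 0, nat_lit 6, nat_lit 0, nat_lit 6], (nat_lit 0)), ([nat_lit 2, nat_lit 6, nat_lit 2, nat_lit 6, nat_lit 2, nat_lit 6], (nat_lit 0)), ([nat_lit 4, nat_lit 6, nat_lit 4, nat_lit 6, nat_lit 4, nat_lit 6], (nat_lit 0)), ([nat_lit 6, nat_lit 1, nat_lit 4, nat_lit 1, nat_lit 6, nat_lit 0, nat_lit 1, nat_lit 4, nat_lit 0, nat_lit 1], (nat_lit 0)), ([nat_lit 6, nat_lit 2, nat_lit 5, nat_lit 2, nat_lit 6, nat_lit 2, nat_lit 5, nat_lit 2], (nat_lit 0)), ([nat_lit 0, nat_lit 7, nat_lit 0, nat_lit 7, nat_lit 0, nat_lit 7], (nat_lit 0)), ([nat_lit 2, nat_lit 7, nat_lit 2, nat_lit 7, nat_lit 2, nat_lit 7], (nat_lit 0)), ([nat_lit 4, nat_lit 7, nat_lit 4, nat_lit 7], (nat_lit 0)), ([nat_lit 5, nat_lit 7, nat_lit 5, nat_lit 7, nat_lit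 5, nat_lit 7], (nat_lit 0)), ([nat_lit 6, nat_lit 7, nat_lit 6, nat_lit 7, nat_lit 6, nat_lit 7], (nat_lit 0)), ([nat_lit 1, nat_lit 2, nat_lit 7, nat_lit 1, nat_lit 2, nat_lit 7], (nat_lit 0)), ([nat_lit 5, nat_lit 6, nat_lit 7, nat_lit 5, nat_lit 6, nat_lit 7, nat_lit 5, nat_lit 6, nat_lit 7, nat_lit 5, nat_lit 6, nat_lit 7], (nat_lit 0)), ([nat_lit 7, nat_lit 1, nat_lit 6, nat_lit 3, nat_lit 7, nat_lit 1, nat_lit 3, nat_lit 6, nat_lit 1], (nat_lit 0)), ([nat_lit 7, nat_lit 6, nat_lit 1, nat_lit 5, nat_lit 6, nat_lit 1, nat_lit 5, nat_lit 7, nat_lit 1, nat_lit 6, nat_lit 5, nat_lit 1], (nat_lit 0)), ([nat_lit 2, nat_lit 8, nat_lit 2, nat_lit 8], (nat_lit 0)), ([nat_lit 0, nat_lit 2, nat_lit 8, nat_lit 0, nat_lit 2, nat_lit 8, nat_lit 0, nat_lit 2, nat_lit 8], (nat_lit 0)), ([nat_lit 1, nat_lit 3, nat_lit 8, nat_lit 1, nat_lit 3, nat_lit 8, nat_lit 1, nat_lit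 3, nat_lit 8], (nat_lit 0)), ([nat_lit 2, nat_lit 8, nat_lit 5, nat_lit 2, nat_lit 8, nat_lit 5], (nat_lit 0)), ([nat_lit 2, nat_lit 8, nat_lit 6, nat_lit 2, nat_lit 8, nat_lit 6], (nat_lit 0)), ([nat_lit 6, nat_lit 7, nat_lit 8, nat_lit 6, nat_lit 7, nat_lit 8, nat_lit 6, nat_lit 7, nat_lit 8, nat_lit 6, nat_lit 7, nat_lit 8, nat_lit 6, nat_lit 7, nat_lit 8], (nat_lit 0)), ([nat_lit 8, nat_lit 0, nat_lit 4, nat_lit 0, nat_lit 8, nat_lit 1, nat_lit 2, nat_lit 4, nat_lit 1], (nat_lit 0)), ([nat_lit 8, nat_lit 0, nat_lit 7, nat_lit 0, nat_lit 8, nat_lit 2, nat_lit 0, nat_lit 7, nat_lit 0], (nat_lit 0)), ([nat_lit 8, nat_lit 1, nat_lit 7, nat_lit 8, nat_lit 4, nat_lit 6, nat_lit 4, nat_lit 8, nat_lit 7, nat_lit 1, nat_lit 8, nat_lit 4, nat_lit 5, nat_lit 1, nat_lit 5, nat_lit 4, nat_lit 1, nat_lit 6, nat_lit 1, nat_lit 6, nat_lit 4, nat_lit 7, nat_lit 0, nat_lit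 6, nat_lit 7, nat_lit 5, nat_lit 1, nat_lit 5, nat_lit 4], (nat_lit 1)), ([nat_lit 0, nat_lit 0], (nat_lit 0)), ([nat_lit 1, nat_lit 1], (nat_lit 0)), ([nat_lit 2, nat_lit 3], (nat_lit 0)), ([nat_lit 3, nat_lit 2], (nat_lit 0)), ([nat_lit 4, nat_lit 4], (nat_lit 0)), ([nat_lit 5, nat_lit 5], (nat_lit 0)), ([nat_lit 6, nat_lit 6], (nat_lit 0)), ([nat_lit 7, nat_lit 7], (nat_lit 0)), ([nat_lit 8, nat_lit 8], (nat_lit 0)), ([nat_lit 1, nat_lit 5, nat_lit 3, nat_lit 0, nat_lit 5, nat_lit 8, nat_lit 6, nat_lit 7, nat_lit 1, nat_lit 0, nat_lit 4, nat_lit 8, nat_lit 5, nat_lit 7, nat_lit 5, nat_lit 6, nat_lit 4, nat_lit 2, nat_lit 6, nat_lit 5, nat_lit 0, nat_lit 1, nat_lit 6, nat_lit 1, nat_lit 3, nat_lit 6, nat_lit 7, nat_lit 5, nat_lit 1, nat_lit 8, nat_lit 6, nat_lit 2, nat_lit 5, nat_lit 1, nat_lit 5, nat_lit 6, nat_lit 3, nat_lit 4, nat_lit 6, nat_lit 5, nat_lit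 7, nat_lit 5, nat_lit 8, nat_lit 4, nat_lit 0, nat_lit 1, nat_lit 7, nat_lit 6, nat_lit 8, nat_lit 5, nat_lit 0, nat_lit 2, nat_lit 5, nat_lit 1, nat_lit 1, nat_lit 5, nat_lit 3, nat_lit 6, nat_lit 8, nat_lit 1, nat_lit 5, nat_lit 7, nat_lit 6, nat_lit 2, nat_lit 1, nat_lit 6, nat_lit 1, nat_lit 0], (nat_lit 1)), ([nat_lit 8, nat_lit 6, nat_lit 1, nat_lit 8, nat_lit 7, nat_lit 5, nat_lit 6, nat_lit 4, nat_lit 3, nat_lit 6, nat_lit 5, nat_lit 4, nat_lit 3, nat_lit 1, nat_lit 4, nat_lit 6, nat_lit 1, nat_lit 7, nat_lit 4, nat_lit 5, nat_lit 1, nat_lit 3, nat_lit 5, nat_lit 6, nat_lit 8, nat_lit 1, nat_lit 5, nat_lit 0, nat_lit 3, nat_lit 5, nat_lit 2, nat_lit 6, nat_lit 7, nat_lit 1, nat_lit 4, nat_lit 5, nat_lit 3, nat_lit 6, nat_lit 5, nat_lit 4, nat_lit 1, nat_lit 2, nat_lit 4, nat_lit 5, nat_lit 6, nat_lit 2, nat_lit 4, nat_lit 6, nat_lit 5, nat_lit 7,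 nat_lit 8, nat_lit 1, nat_lit 6, nat_lit 8, nat_lit 5, nat_lit 6, nat_lit 2, nat_lit 5, nat_lit 4, nat_lit 1, nat_lit 7, nat_lit 6, nat_lit 3, nat_lit 5, nat_lit 2, nat_lit 0, nat_lit 5, nat_lit 1, nat_lit 8, nat_lit 6, nat_lit 5, nat_lit 2, nat_lit 1, nat_lit 5, nat_lit 4, nat_lit 7, nat_lit 1, nat_lit 6], (nat_lit 0))]
noncomputable def f1 : ℕ → ℕ := permE (mT E (nat_lit 2)) iw (nat_lit 240) (nat_lit 9)
noncomputable def f2 : ℕ → ℕ := scE E (nat_lit 2) ws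
theorem ca0 : Nat.beq (rng f1 (nat_lit 0) (nat_lit 240)) (nat_lit 0) = true := by decide +kernel
theorem cb0 : Nat.beq (rng f2 (nat_lit 0) (nat_lit 120)) (nat_lit 0) = true := by decide +kernel
theorem h1 : ∀ i < 240, f1 i = 0 := by
  have h := zero_lt_zero f1
  have h := zero_lt_add (a := (nat_lit 0)) (n := (nat_lit 240)) (b := (nat_lit 240)) h ca0 rfl
  exact h
theorem h2 : ∀ i < 120, f2 i = 0 := by
  have h := zero_lt_zero f2
  have h := zero_lt_add (a := (nat_lit 0)) (n := (nat_lit 120)) (b := (nat_lit 120)) h cb0 rfl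
  exact h
theorem cov : Cov O82.inv O82.rels 9 U V [2, 1] := cov_of (M := 239) (N := 120) rfl (by decide +kernel) h1 h2 a (by decide +kernel)

end Cfsg.Agent.Ct.O82s.V0
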