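import Cfsg.Agent.Lib.Cert.O82s.UV

set_option autoImplicit false
set_option maxRecDepth 100000

namespace Cfsg.Agent.Ct.O82s.V1

open Cfsg.Agent.PC

open Cfsg.Agent.Fi Cfsg.Agent.Ct
def Ef_t : TN := (TN.node (TN.node (TN.leaf (nat_lit 0xc816c509c04bb5b307ac5c6a93058e50155b73033d1e6662474301382e24180ae0b2c2ef726ae4e8838de7ed9e69d6cf42a6ea4a3a95cb6658b856924871d8857ec17c306ec5a128d3ae7a9726a5bd9b245240c7d4655fa89d4590b7751ada6ccdb4e386acb1c8bbdf5b0e5460bfdc8f4d0c63781daad0321019880a2d3f8b81391246a2985021043c2a761e150236345c4e2e0700221608e9d9cae0dbe26bee5f5272b2d2869f42d16fc36289a5eaad559361bc796cec659c664480cc9528a3d67f912699c5b87a51dd333a68b1df31aeaa9a481a77e6b5a670e4d5c0854b56830e5dbeba588c240c4fc8b62a7dce8a351ec62f121040a80a371ca0968e04231847743d02172c3e5a4c380009201406d3dba6d8e1dd67e6cae4ece9b3c6ee83c243df84d5adcf8d35505bb6b93dd64e46c42b9deb53329872a878a1416b91927ac0391f6cc9d01d44308f9b634c9f3a5f879419e21a76556e11ba0f3f60a4bdb1750d25af7fcc9656b4718a09bea37d2620aa0b2f48162d888065682307035c584a283614011204ecef8272b3ada4d7ccc5d29ee0b4dba65fdf42753cdc6e94ba9bbf8f7ad5e67730e49c2bd1e32f8ad9abbc3828c14825b86ba16d1f4ceb451d47b751b0c8e919c3888c3b534a4e11ce54343e0f5d6678638565937c80cb0b59c76899175b26afa207a89733900914867e0c7036210460561b40222c130102))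 (TN.leaf (nat_lit 0x34785a7a8e672eac2cb1a04fe3d0e6ab5e8b51dd86ec2448b7209c4c976c1cc6ebdbb9bde4cc18e916851423b4e12b549f10bb0e3e61d59aa889d791d33c0acb574508c5c3bf1306b3af621e0493688d298302736f6b325d5900433b31271b0dc380e0cb77a2a1eb567a75a9be48584d4f7de83e953bee36d7968299683331afb02ca6d8ab88e5e255858cb8bdc62753229b6da5789cbbed65ccdd87e6da1b40458a28b7127e105e612a1dd3df9e9020ced035d50f6e0d71c917c408c14ab4b206ad5d6b92048f51145a72023c1f6763464200392f25190bd2daa7d9e0dc66e7cbe5ede8b2c7ef82c342de85d4acce8c34515ab7b83cd74f47c52a9cea52339973a979a0406a90937bc1381e6dc8d11c45318e9a624d9e3b5e869518e31b77546f10bb0e3e61a5bcb0740c24ae7ecd9757b5708b08bfa27c2721ab0a2e49172c898164692206025d594b293715001305edee8373b2aca5d6cdc4d39fe1b5daa75ede43743ddd6f95bb9abe8e7bd4e77631e59d2ad0e22e8bd8aabd3929c04924b96aa06c1e4dea441c46b650b1c9e818c2898d3a524b4f10cf55353f0e5c6779628464927d81ca0a58c66998165a27aea306a99632910815877f0d7137200561571a41232d120003c391e0cb6b72daeb8c83e39b996296b8bda3e8875d50ee8b4cce31d12f7f7b2d71407756298ecc6e276dd8d6d32543eca5dfc05bc837dc60)))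 (TN.node (TN.leaf (nat_lit 0xb41bb239aa45e5aea19ce64a3212d58153c6884fa90d5ec558bf690b217492ad09150f78840767bab6b005a69e941c4603237c17183c65013a54483e342a1e10cee3e69aebc8ec7664734d4bc1584974ef9e8ce5aebd4fd636c49882662f8e95c7a72c34ac5e3f80cd27e9bb3ab08442b3cb1f604493b9a156551b6fe1d1dc2a78152413b7df5089a54119d57f7c0d63c2dad8d20b87915ca2099717bfa90722b4ab71059c6b31108a037a5a386c68210152463c32281c0edbd2989fd7ca96b2ab89ee72e68bed62569ce566766c91bb9433c0318da1e13c8f42de864f2955b4e8cd27ebe3bf69c2aeb6d4dca91d39404d5a6b1bc753d95825c57a92c911d14b0f2f7d71cfa2740da67e603b340bad8119b148820947bcb85c201fa49a6e162d2a84783e230703645e50443614011204c1947f71a276a765c8997dcf4b5347a4d87441df803937ee35795b7b8f662fad2db0a14ee2d1e7aa5f8a50dc87ed2549b6219d4d966d1dc7eadab8bce5cd19e817841522b5e02a559e11ba0f3f60d49ba988d690d23d0bca564409c4c2be1207b2ae631f0592698c288203726e6a335c5801423a30261a0cc281e1ca76a3a0ea577b74a8bf49594c4e7ce93f943aef37d6978398693230aeb12da7d9aa89e4e354848db9bcc72652239a6ca4799dbaec64cddc86e7db1a41448b29b6137f115f602b1cd2de9f9121cfd134d40e6f0c70))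 (TN.leaf (nat_lit 0xc290e1ca6a73dbea8d82e29a986397b9bca2e9865c51ef8a4dcf30d02e7e7a2c70417657288fcd6f266cd9d7d22442eda4dec15ac936dd61b51ab338ab44e4afa09de74b3313d48052c7894ea80c5fc459be680a207593ac08140e79850666bbb7b104a79f951d4702227d16193d64003b55493f352b1f11cfe2e79beac9ed7765724c4ac0594875ee9f8de4afbc4ed737c59983672e8f94c6a62d35ad5f3e81cc26e8ba3bb18543b2ca1e614592b8a057541a6ee0d0dd2b79142512b6de5188a44018d47e7d0c62c3dbd9d30a86905da3089616bea80623b5aa70049d6a30118b027b5b396d69200053473d33291d0fdad3999ed6cb97b3aa88ef73e78aec63579de467776d90ba9532c1308ca0e03d8e43df874e2854b5e9cc26eae2be68c3afb7d5dda81c38414c5b6a1ac652d85924c47b93c810d04a0e2e7c70cea3750ca77f613a350aac8018b049830846bdb95d211ea59b6f172c2b85793f220602655f51453715001305c0957e70a377a664c9987cce4a5246a5d97540de813836ef))))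
noncomputable def Ef (i : ℕ) : ℕ := get9 Ef_t (nat_lit 8) (nat_lit 255) i
noncomputable def E (j c : ℕ) : ℕ := Ef (Nat.add (Nat.mul j (nat_lit 120)) c)
def iw (i : ℕ) : ℕ := Nat.land (Nat.shiftRight (nat_lit 0x8765410fedcb23a9) (Nat.mul (nat_lit 4) i)) (nat_lit 15)
def a (i : ℕ) : ℕ := Nat.land (Nat.shiftRight (nat_lit 2) (Nat.mul (nat_lit 1) i)) (nat_lit 1)
def ws : List (List ℕ × ℕ) := [([nat_lit 2, nat_lit 2, nat_lit 2], (nat_lit 1)), ([nat_lit 0, nat_lit 1, nat_lit 0, nat_lit 1], (nat_lit 1)), ([nat_lit 0, nat_lit 2, nat_lit 0, nat_lit 2, nat_lit 0, nat_lit 2], (nat_lit 1)), ([nat_lit 2, nat_lit 0, nat_lit 3, nat_lit 1, nat_lit 0], (nat_lit 0)), ([nat_lit 0, nat_lit 4, nat_lit 0, nat_lit 4, nat_lit 0, nat_lit 4], (nat_lit 1)), ([nat_lit 2, nat_lit 4, nat_lit 2, nat_lit 4], (nat_lit 1)), ([nat_lit 0, nat_lit 5, nat_lit 0, nat_lit 5], (nat_lit 1)), ([nat_lit 2, nat_lit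 5, nat_lit 2, nat_lit 5, nat_lit 2, nat_lit 5], (nat_lit 1)), ([nat_lit 4, nat_lit 5, nat_lit 4, nat_lit 5], (nat_lit 1)), ([nat_lit 0, nat_lit 6, nat_lit 0, nat_lit 6], (nat_lit 1)), ([nat_lit 2, nat_lit 6, nat_lit 2, nat_lit 6, nat_lit 2, nat_lit 6], (nat_lit 1)), ([nat_lit 4, nat_lit 6, nat_lit 4, nat_lit 6, nat_lit 4, nat_lit 6], (nat_lit 0)), ([nat_lit 6, nat_lit 1, nat_lit 4, nat_lit 1, nat_lit 6, nat_lit 0, nat_lit 1, nat_lit 4, nat_lit 0, nat_lit 1], (nat_lit 1)), ([nat_lit 6, nat_lit 2, nat_lit 5, nat_lit 2, nat_lit 6, nat_lit 2, nat_lit 5, nat_lit 2], (nat_lit 1)), ([nat_lit 0, nat_lit 7, nat_lit 0, nat_lit 7, nat_lit 0, nat_lit 7], (nat_lit 0)), ([nat_lit 2, nat_lit 7, nat_lit 2, nat_lit 7, nat_lit 2, nat_lit 7], (nat_lit 1)), ([nat_lit 4, nat_lit 7, nat_lit 4, nat_lit 7], (nat_lit 1)), ([nat_lit 5, nat_lit 7, nat_lit 5, nat_lit 7, nat_lit 5, nat_lit 7], (nat_lit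 0)), ([nat_lit 6, nat_lit 7, nat_lit 6, nat_lit 7, nat_lit 6, nat_lit 7], (nat_lit 0)), ([nat_lit 1, nat_lit 2, nat_lit 7, nat_lit 1, nat_lit 2, nat_lit 7], (nat_lit 1)), ([nat_lit 5, nat_lit 6, nat_lit 7, nat_lit 5, nat_lit 6, nat_lit 7, nat_lit 5, nat_lit 6, nat_lit 7, nat_lit 5, nat_lit 6, nat_lit 7], (nat_lit 1)), ([nat_lit 7, nat_lit 1, nat_lit 6, nat_lit 3, nat_lit 7, nat_lit 1, nat_lit 3, nat_lit 6, nat_lit 1], (nat_lit 0)), ([nat_lit 7, nat_lit 6, nat_lit 1, nat_lit 5, nat_lit 6, nat_lit 1, nat_lit 5, nat_lit 7, nat_lit 1, nat_lit 6, nat_lit 5, nat_lit 1], (nat_lit 0)), ([nat_lit 2, nat_lit 8, nat_lit 2, nat_lit 8], (nat_lit 1)), ([nat_lit 0, nat_lit 2, nat_lit 8, nat_lit 0, nat_lit 2, nat_lit 8, nat_lit 0, nat_lit 2, nat_lit 8], (nat_lit 0)), ([nat_lit 1, nat_lit 3, nat_lit 8, nat_lit 1, nat_lit 3, nat_lit 8, nat_lit 1, nat_lit 3, nat_lit 8], (nat_lit 0)), ([nat_lit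 2, nat_lit 8, nat_lit 5, nat_lit 2, nat_lit 8, nat_lit 5], (nat_lit 1)), ([nat_lit 2, nat_lit 8, nat_lit 6, nat_lit 2, nat_lit 8, nat_lit 6], (nat_lit 1)), ([nat_lit 6, nat_lit 7, nat_lit 8, nat_lit 6, nat_lit 7, nat_lit 8, nat_lit 6, nat_lit 7, nat_lit 8, nat_lit 6, nat_lit 7, nat_lit 8, nat_lit 6, nat_lit 7, nat_lit 8], (nat_lit 0)), ([nat_lit 8, nat_lit 0, nat_lit 4, nat_lit 0, nat_lit 8, nat_lit 1, nat_lit 2, nat_lit 4, nat_lit 1], (nat_lit 0)), ([nat_lit 8, nat_lit 0, nat_lit 7, nat_lit 0, nat_lit 8, nat_lit 2, nat_lit 0, nat_lit 7, nat_lit 0], (nat_lit 0)), ([nat_lit 8, nat_lit 1, nat_lit 7, nat_lit 8, nat_lit 4, nat_lit 6, nat_lit 4, nat_lit 8, nat_lit 7, nat_lit 1, nat_lit 8, nat_lit 4, nat_lit 5, nat_lit 1, nat_lit 5, nat_lit 4, nat_lit 1, nat_lit 6, nat_lit 1, nat_lit 6, nat_lit 4, nat_lit 7, nat_lit 0, nat_lit 6, nat_lit 7, nat_lit 5, nat_lit 1, nat_lit 5, nat_lit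 4], (nat_lit 0)), ([nat_lit 0, nat_lit 0], (nat_lit 1)), ([nat_lit 1, nat_lit 1], (nat_lit 1)), ([nat_lit 2, nat_lit 3], (nat_lit 0)), ([nat_lit 3, nat_lit 2], (nat_lit 0)), ([nat_lit 4, nat_lit 4], (nat_lit 1)), ([nat_lit 5, nat_lit 5], (nat_lit 1)), ([nat_lit 6, nat_lit 6], (nat_lit 1)), ([nat_lit 7, nat_lit 7], (nat_lit 1)), ([nat_lit 8, nat_lit 8], (nat_lit 1)), ([nat_lit 10, nat_lit 12, nat_lit 3, nat_lit 9, nat_lit 12, nat_lit 15, nat_lit 13, nat_lit 14, nat_lit 10, nat_lit 9, nat_lit 11, nat_lit 15, nat_lit 12, nat_lit 14, nat_lit 12, nat_lit 13, nat_lit 11, nat_lit 2, nat_lit 13, nat_lit 12, nat_lit 9, nat_lit 10, nat_lit 13, nat_lit 10, nat_lit 3, nat_lit 13, nat_lit 14, nat_lit 12, nat_lit 10, nat_lit 15, nat_lit 13, nat_lit 2, nat_lit 12, nat_lit 10, nat_lit 5, nat_lit 6, nat_lit 3, nat_lit 4, nat_lit 6, nat_lit 5, nat_lit 7, nat_lit 5, nat_lit 8, nat_lit 4,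 nat_lit 0, nat_lit 1, nat_lit 7, nat_lit 6, nat_lit 8, nat_lit 5, nat_lit 0, nat_lit 2, nat_lit 5, nat_lit 1, nat_lit 1, nat_lit 5, nat_lit 3, nat_lit 6, nat_lit 8, nat_lit 1, nat_lit 5, nat_lit 7, nat_lit 6, nat_lit 2, nat_lit 1, nat_lit 6, nat_lit 1, nat_lit 0], (nat_lit 0)), ([nat_lit 15, nat_lit 13, nat_lit 10, nat_lit 15, nat_lit 14, nat_lit 12, nat_lit 13, nat_lit 11, nat_lit 3, nat_lit 13, nat_lit 12, nat_lit 11, nat_lit 3, nat_lit 10, nat_lit 11, nat_lit 13, nat_lit 10, nat_lit 14, nat_lit 11, nat_lit 12, nat_lit 10, nat_lit 3, nat_lit 12, nat_lit 13, nat_lit 15, nat_lit 10, nat_lit 12, nat_lit 9, nat_lit 3, nat_lit 12, nat_lit 2, nat_lit 13, nat_lit 14, nat_lit 10, nat_lit 11, nat_lit 12, nat_lit 3, nat_lit 13, nat_lit 12, nat_lit 4, nat_lit 1, nat_lit 2, nat_lit 4, nat_lit 5, nat_lit 6, nat_lit 2, nat_lit 4, nat_lit 6, nat_lit 5, nat_lit 7, nat_lit 8, nat_lit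 1, nat_lit 6, nat_lit 8, nat_lit 5, nat_lit 6, nat_lit 2, nat_lit 5, nat_lit 4, nat_lit 1, nat_lit 7, nat_lit 6, nat_lit 3, nat_lit 5, nat_lit 2, nat_lit 0, nat_lit 5, nat_lit 1, nat_lit 8, nat_lit 6, nat_lit 5, nat_lit 2, nat_lit 1, nat_lit 5, nat_lit 4, nat_lit 7, nat_lit 1, nat_lit 6], (nat_lit 1))]
noncomputable def f1 : ℕ → ℕ := permE (mT E (nat_lit 2)) iw (nat_lit 240) (nat_lit 16)
noncomputable def f2 : ℕ → ℕ := scE E (nat_lit 2) ws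
theorem ca0 : Nat.beq (rng f1 (nat_lit 0) (nat_lit 240)) (nat_lit 0) = true := by decide +kernel
theorem cb0 : Nat.beq (rng f2 (nat_lit 0) (nat_lit 120)) (nat_lit 0) = true := by decide +kernel
theorem h1 : ∀ i < 240, f1 i = 0 := by
  have h := zero_lt_zero f1
  have h := zero_lt_add (a := (nat_lit 0)) (n := (nat_lit 240)) (b := (nat_lit 240)) h ca0 rfl
  exact h
theorem h2 : ∀ i < 120, f2 i = 0 := by
  have h := zero_lt_zero f2
  have h := zero_lt_add (a := (nat_lit 0)) (n := (nat_lit 120)) (b := (nat_lit 120)) h cb0 rfl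
  exact h
theorem cov : Cov O82.inv O82.rels 9 U V [1, 2] := cov_of (M := 239) (N := 120) rfl (by decide +kernel) h1 h2 a (by decide +kernel)

end Cfsg.Agent.Ct.O82s.V1
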